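import Mathlib

/-!
# The two coefficient vectors of a principal character on the section of a wreathed involution

`c` lives on the characters of the torus `A × A` (`A` cyclic of order `2 ^ m`), `d` on those of the
cyclic torus of order `2 ^ (m + 1)`.  Both only matter modulo constants.
-/

set_option autoImplicit false

namespace Cfsg.Agent.H36.Wreath

open Finset

variable {m : ℕ}

/-- Variance sum of an integer vector, multiplied by the number of its entries. -/
def spread {ι : Type*} [Fintype ι] (v : ι → ℤ) : ℤ :=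
  (Fintype.card ι : ℤ) * ∑ i, v i ^ 2 - (∑ i, v i) ^ 2

/-- The vectors. -/
structure Vec (m : ℕ) where
  /-- coefficients on the split torus -/
  c : ZMod (2 ^ m) → ZMod (2 ^ m) → ℤ
  /-- coefficients on the cyclic torus -/
  d : ZMod (2 ^ (m + 1)) → ℤ
  c_swap : ∀ a b, c b a = c a b
  c_rot : ∀ a b, c (-a) (b - a) = c a b
  d_pair : ∀ i, d (i + (i.val * 2 ^ m : ℕ)) = d i
  /-- the norm of the character on the section is less than one -/
  budget : (2 : ℤ) ^ (m + 1) * spread (fun p : ZMod (2 ^ m) × ZMod (2 ^ m) => c p.1 p.2) +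
      3 * 4 ^ m * spread d < 6 * (4 ^ m * 2 ^ (m + 1))
  /-- both vectors restrict to the same character of the central part modulo two and constants -/
  parity : ∃ k : ℤ, ∀ w : ZMod (2 ^ m), Even ((∑ a, c a (w - a)) -
      (∑ i : ZMod (2 ^ (m + 1)) with ((i.val : ℕ) : ZMod (2 ^ m)) = w, d i) - k)

namespace Vec

variable (V : Vec m)

/-- The coefficient in `φ i = 1 - St + X i` (`i` odd) and in `φ s` (`i = 2 ^ m`). -/
def co (i : ZMod (2 ^ (m + 1))) : ℤ := V.d 0 - V.d i

/-- Twice the coefficient in `ψ₀ = 1 + sgn St - R`. -/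
def coPsi : ℤ :=
  V.co ((2 ^ m : ℕ) : ZMod (2 ^ (m + 1))) +
    (V.c 0 0 - V.c ((2 ^ (m - 1) : ℕ) : ZMod (2 ^ m)) ((2 ^ (m - 1) : ℕ) : ZMod (2 ^ m)))

/-- The value on the split regular part of the section of the involution. -/
def valA : ℤ := ∑ a, ∑ b, (-1) ^ (a.val + b.val) * V.c a b

/-- The value on the elliptic regular part of the section of the involution. -/
def valE : ℤ := ∑ i, (-1) ^ i.val * V.d i

/-- Twice the value at the involution. -/
def val2 (Q : ℤ) : ℤ := 2 * V.valA + (V.valA - V.valE) * (Q - 1)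

end Vec

end Cfsg.Agent.H36.Wreath
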