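import Cfsg.Agent.H36.Wreath.Spread

/-!
# Orbits, parity and bounds for the two vectors
-/

set_option autoImplicit false

namespace Cfsg.Agent.H36.Wreath

open Finset

variable {ι : Type*} [Fintype ι] {m : ℕ}

/-- A part, shifted, varies at most in proportion. -/
theorem part_le (v : ι → ℤ) (S : Finset ι) (K : ℤ) :
    (Fintype.card ι : ℤ) * ((S.card : ℤ) * ∑ i ∈ S, (v i - K) ^ 2 - (∑ i ∈ S, (v i - K)) ^ 2) ≤
      (S.card : ℤ) * spread v := by
  classical
  have h := spread_part (fun i => v i - K) (f := fun k : S => (k : ι)) Subtype.val_injective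
  rw [spread_sub_const v K] at h
  simpa only [spread, Fintype.card_coe, sum_coe_sort S (fun i => (v i - K) ^ 2),
    sum_coe_sort S (fun i => v i - K)] using h

theorem two_pow_even (hm : 1 ≤ m) : Even ((2 : ℤ) ^ m) :=
  Int.even_pow.2 ⟨even_two, by omega⟩

theorem half_double (hm : 1 ≤ m) : 2 ^ (m - 1) + 2 ^ (m - 1) = 2 ^ m := by
  obtain ⟨j, rfl⟩ : ∃ j, m = j + 1 := ⟨m - 1, by omega⟩
  simp [pow_succ]; ring

/-- The element of order two of `ZMod (2 ^ m)`. -/
def half (m : ℕ) : ZMod (2 ^ m) := ((2 ^ (m - 1) : ℕ) : ZMod (2 ^ m))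

theorem half_add_half (hm : 1 ≤ m) : half m + half m = 0 := by
  rw [half, ← Nat.cast_add, half_double hm, ZMod.natCast_self]

theorem half_lt (hm : 1 ≤ m) : 2 ^ (m - 1) < 2 ^ m :=
  Nat.pow_lt_pow_right (by norm_num) (by omega)

theorem val_half (hm : 1 ≤ m) : (half m).val = 2 ^ (m - 1) :=
  ZMod.val_natCast_of_lt (half_lt hm)

theorem half_ne_zero (hm : 1 ≤ m) : half m ≠ 0 := by
  intro h
  have := congrArg ZMod.val h
  rw [val_half hm, ZMod.val_zero] at this
  exact absurd this (by positivity)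

theorem neg_half (hm : 1 ≤ m) : -half m = half m := neg_eq_of_add_eq_zero_right (half_add_half hm)

/-- The rotation of order three. -/
def rot (p : ZMod (2 ^ m) × ZMod (2 ^ m)) : ZMod (2 ^ m) × ZMod (2 ^ m) := (p.2 - p.1, -p.1)

theorem rot_rot (p : ZMod (2 ^ m) × ZMod (2 ^ m)) : rot (rot p) = (-p.2, p.1 - p.2) := by
  simp only [rot, Prod.mk.injEq]; constructor <;> ring

theorem rot_cube (p : ZMod (2 ^ m) × ZMod (2 ^ m)) : rot (rot (rot p)) = p := by
  obtain ⟨a, b⟩ := p
  simp only [rot, Prod.mk.injEq]; constructor <;> ring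

theorem rot_ne {p : ZMod (2 ^ m) × ZMod (2 ^ m)} (hp : p ≠ 0) : rot p ≠ p := by
  intro h
  obtain ⟨a, b⟩ := p
  simp only [rot, Prod.mk.injEq] at h
  have hb : b = -a := h.2.symm
  have h3 : (3 : ZMod (2 ^ m)) * a = 0 := by linear_combination hb - h.1
  have hu : IsUnit ((3 : ℕ) : ZMod (2 ^ m)) :=
    (ZMod.isUnit_iff_coprime 3 (2 ^ m)).2 (Nat.Coprime.pow_right m (by norm_num))
  have ha : a = 0 := hu.mul_right_eq_zero.1 (by exact_mod_cast h3)
  exact hp (by simp [ha, hb])

theorem rot_ne_zero {p : ZMod (2 ^ m) × ZMod (2 ^ m)} (hp : p ≠ 0) : rot p ≠ 0 := by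
  intro h
  obtain ⟨a, b⟩ := p
  simp only [rot, Prod.mk_eq_zero, neg_eq_zero, sub_eq_zero] at h
  exact hp (by simp [h.1, h.2])

open scoped Classical in
theorem card_orbit {p : ZMod (2 ^ m) × ZMod (2 ^ m)} (hp : p ≠ 0) :
    ({p, rot p, rot (rot p)} : Finset _).card = 3 := by
  rw [card_eq_three]
  refine ⟨p, rot p, rot (rot p), (rot_ne hp).symm, fun h => rot_ne hp ?_, (rot_ne (rot_ne_zero hp)).symm, rfl⟩
  have h' := congrArg rot h
  rw [rot_cube] at h'
  exact h'

/-- A set without the origin closed under the rotation has cardinal divisible by three. -/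
theorem three_dvd_card (S : Finset (ZMod (2 ^ m) × ZMod (2 ^ m))) (h0 : (0 : _ × _) ∉ S)
    (hS : ∀ p ∈ S, rot p ∈ S) : 3 ∣ S.card := by
  classical
  induction S using Finset.strongInduction with
  | _ S ih =>
    rcases S.eq_empty_or_nonempty with rfl | ⟨p, hp⟩
    · simp
    have hp0 : p ≠ 0 := fun h => h0 (h ▸ hp)
    have hsub : ({p, rot p, rot (rot p)} : Finset _) ⊆ S := by
      simp only [insert_subset_iff, singleton_subset_iff]
      exact ⟨hp, hS _ hp, hS _ (hS _ hp)⟩
    have hd := ih (S \ {p, rot p, rot (rot p)})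
      (sdiff_ssubset hsub (insert_nonempty _ _)) (fun h => h0 (mem_sdiff.1 h).1) fun r hr => by
        simp only [mem_sdiff, mem_insert, mem_singleton] at hr ⊢
        refine ⟨hS r hr.1, ?_⟩
        rintro (h | h | h)
        · exact hr.2 (Or.inr (Or.inr (by rw [← rot_cube r, h])))
        · exact hr.2 (Or.inl (by
            have h' := congrArg (fun z => rot (rot z)) h
            simpa only [rot_cube] using h'))
        · exact hr.2 (Or.inr (Or.inl (by
            have h' := congrArg (fun z => rot (rot z)) h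
            simpa only [rot_cube] using h')))
    have hc := card_sdiff_add_card_eq_card hsub
    rw [card_orbit hp0] at hc
    omega

/-- The element `2 ^ m` of `ZMod (2 ^ (m + 1))`. -/
def mid (m : ℕ) : ZMod (2 ^ (m + 1)) := ((2 ^ m : ℕ) : ZMod (2 ^ (m + 1)))

theorem mid_eq_half (m : ℕ) : mid m = half (m + 1) := rfl

theorem val_mid (m : ℕ) : (mid m).val = 2 ^ m := val_half (m := m + 1) (by omega)

theorem mid_add_mid (m : ℕ) : mid m + mid m = 0 := half_add_half (m := m + 1) (by omega)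

theorem mid_ne_zero (m : ℕ) : mid m ≠ 0 := half_ne_zero (m := m + 1) (by omega)

theorem add_mid_ne (i : ZMod (2 ^ (m + 1))) : i + mid m ≠ i := fun h =>
  mid_ne_zero m (add_eq_left.1 h)

theorem val_add_mid (i : ZMod (2 ^ (m + 1))) :
    (i + mid m).val = if i.val < 2 ^ m then i.val + 2 ^ m else i.val - 2 ^ m := by
  rw [ZMod.val_add, val_mid]
  have hi := i.val_lt
  have e : 2 ^ (m + 1) = 2 ^ m + 2 ^ m := by rw [pow_succ]; ring
  generalize i.val = a at hi ⊢
  split_ifs with h
  · exact Nat.mod_eq_of_lt (by omega)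
  · rw [Nat.mod_eq_sub_mod (by omega), Nat.mod_eq_of_lt (by omega)]
    omega

theorem fibre (i : ZMod (2 ^ (m + 1))) :
    (univ.filter fun j : ZMod (2 ^ (m + 1)) =>
      ((j.val : ℕ) : ZMod (2 ^ m)) = ((i.val : ℕ) : ZMod (2 ^ m))) = {i, i + mid m} := by
  ext j
  simp only [mem_filter, mem_univ, true_and, mem_insert, mem_singleton,
    ← (ZMod.val_injective _).eq_iff (a := j), val_add_mid, ZMod.natCast_eq_natCast_iff']
  have hi := i.val_lt
  have hj := j.val_lt
  have e : 2 ^ (m + 1) = 2 ^ m + 2 ^ m := by rw [pow_succ]; ring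
  generalize i.val = a at hi ⊢
  generalize j.val = b at hj ⊢
  rw [e] at hi hj
  have key : ∀ y, y < 2 ^ m + 2 ^ m → y % 2 ^ m = if y < 2 ^ m then y else y - 2 ^ m := fun y hy => by
    split_ifs with h
    · exact Nat.mod_eq_of_lt h
    · rw [Nat.mod_eq_sub_mod (by omega), Nat.mod_eq_of_lt (by omega)]
  rw [key a hi, key b hj]
  split_ifs <;> omega

/-- The sign character sums to zero. -/
theorem sum_sign (hm : 1 ≤ m) : ∑ a : ZMod (2 ^ m), (-1 : ℤ) ^ a.val = 0 := by
  have h : ∀ a : ZMod (2 ^ m), (-1 : ℤ) ^ (a + 1).val = -(-1 : ℤ) ^ a.val := fun a => by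
    have : Fact (1 < 2 ^ m) := ⟨Nat.one_lt_two_pow (by omega)⟩
    rw [ZMod.val_add, ZMod.val_one, neg_one_pow_eq_pow_mod_two, Nat.mod_mod_of_dvd _ (dvd_pow_self 2 (by omega : m ≠ 0)),
      ← neg_one_pow_eq_pow_mod_two, pow_succ]
    ring
  have h2 := Fintype.sum_equiv (Equiv.addRight (1 : ZMod (2 ^ m))) _
    (fun a => (-1 : ℤ) ^ a.val) (fun _ => rfl)
  simp only [Equiv.coe_addRight, h, sum_neg_distrib] at h2
  omega

end Cfsg.Agent.H36.Wreath
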