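import Cfsg.Agent.H36.Wreath.Facts

/-!
# The entries on the cyclic torus
-/

set_option autoImplicit false

namespace Cfsg.Agent.H36.Wreath

open Finset

variable {m : ℕ}

/-- The odd indices. -/
def odds (m : ℕ) : Finset (ZMod (2 ^ (m + 1))) := univ.filter fun i => Odd i.val

theorem mem_odds {i : ZMod (2 ^ (m + 1))} : i ∈ odds m ↔ Odd i.val := by simp [odds]

theorem card_odds (m : ℕ) : (odds m).card = 2 ^ m := by
  have h : ∑ i : ZMod (2 ^ (m + 1)), (-1 : ℤ) ^ i.val = 0 := sum_sign (m := m + 1) (by omega)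
  have h2 : ∀ i : ZMod (2 ^ (m + 1)), (-1 : ℤ) ^ i.val = 1 - 2 * if Odd i.val then 1 else 0 :=
    fun i => by
      rcases Nat.even_or_odd i.val with he | ho
      · rw [he.neg_one_pow, if_neg (Nat.not_odd_iff_even.2 he)]; ring
      · rw [ho.neg_one_pow, if_pos ho]; ring
  rw [sum_congr rfl fun i _ => h2 i, sum_sub_distrib, ← mul_sum, sum_boole, sum_const, card_univ,
    ZMod.card, nsmul_eq_mul, ← odds] at h
  have h' : (2 : ℤ) ^ (m + 1) = 2 * (odds m).card := by push_cast at h; linarith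
  rw [pow_succ] at h'
  exact_mod_cast (by linarith : ((odds m).card : ℤ) = 2 ^ m)

theorem even_add_mid (hm : 1 ≤ m) {i : ZMod (2 ^ (m + 1))} (hi : ¬ Odd i.val) :
    ¬ Odd (i + mid m).val := by
  have h2 : Even (2 ^ m) := Nat.even_pow.2 ⟨even_two, by omega⟩
  rw [Nat.not_odd_iff_even] at hi ⊢
  rw [val_add_mid]
  split_ifs with h
  · exact hi.add h2
  · obtain ⟨a, ha⟩ := hi
    obtain ⟨b, hb⟩ := h2
    exact ⟨a - b, by omega⟩

theorem mid_even (hm : 1 ≤ m) : ¬ Odd (mid m).val := by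
  rw [val_mid, Nat.not_odd_iff_even]
  exact Nat.even_pow.2 ⟨even_two, by omega⟩

theorem one_val (m : ℕ) : (1 : ZMod (2 ^ (m + 1))).val = 1 := by
  have : Fact (1 < 2 ^ (m + 1)) := ⟨Nat.one_lt_two_pow (by omega)⟩
  exact ZMod.val_one _

theorem cast_eq_zero_iff (i : ZMod (2 ^ (m + 1))) :
    ((i.val : ℕ) : ZMod (2 ^ m)) = 0 ↔ i = 0 ∨ i = mid m := by
  have h := congrArg (fun s => i ∈ s) (fibre (0 : ZMod (2 ^ (m + 1))))
  simpa using h

namespace Vec

variable (V : Vec m)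

/-- `d` relative to its first entry. -/
def u (i : ZMod (2 ^ (m + 1))) : ℤ := V.d i - V.d 0

theorem valE_eq_u : V.valE = ∑ i, (-1) ^ i.val * V.u i := by
  have h : ∑ i : ZMod (2 ^ (m + 1)), (-1 : ℤ) ^ i.val = 0 := sum_sign (m := m + 1) (by omega)
  simp only [valE, u, mul_sub, sum_sub_distrib, ← sum_mul, h, zero_mul, sub_zero]

theorem pairD_u (i : ZMod (2 ^ (m + 1))) : V.pairD i = V.u i + V.u (i + mid m) + 2 * V.d 0 := by
  simp only [pairD, u]; ring

/-- The variance bound from the origin, the odd indices and some even indices. -/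
theorem part_d (T : Finset (ZMod (2 ^ (m + 1)))) (hT : ∀ i ∈ T, ¬ Odd i.val ∧ i ≠ 0) :
    2 * (2 : ℤ) ^ m * ((2 ^ m + 1 + (T.card : ℤ)) * (∑ i ∈ odds m, V.u i ^ 2 + ∑ i ∈ T, V.u i ^ 2) -
        (∑ i ∈ odds m, V.u i + ∑ i ∈ T, V.u i) ^ 2) ≤
      (2 ^ m + 1 + (T.card : ℤ)) * spread V.d := by
  have h0 : (0 : ZMod (2 ^ (m + 1))) ∉ odds m := by simp [mem_odds]
  have hd : Disjoint (insert 0 (odds m)) T := by
    rw [disjoint_right]
    intro i hi
    simp only [mem_insert, mem_odds, not_or]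
    exact ⟨(hT i hi).2, (hT i hi).1⟩
  have h := part_le V.d ((insert 0 (odds m)) ∪ T) (V.d 0)
  rw [card_union_of_disjoint hd, sum_union hd, sum_union hd, card_insert_of_notMem h0,
    sum_insert h0, sum_insert h0, card_odds, ZMod.card] at h
  push_cast at h
  simp only [sub_self, ne_eq, OfNat.ofNat_ne_zero, not_false_eq_true, zero_pow, zero_add,
    pow_succ (2 : ℤ) m, mul_comm ((2 : ℤ) ^ m) 2] at h
  exact h

/-- `valE` from the entries. -/
theorem valE_split (U : ℤ) (hU : ∑ i ∈ odds m, V.u i = U) (hm : 1 ≤ m)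
    (he : ∀ i, ¬ Odd i.val → i ≠ mid m → V.u i = 0) : V.valE = -U + V.u (mid m) := by
  rw [valE_eq_u, ← sum_add_sum_compl (odds m), ← hU, ← sum_neg_distrib]
  congr 1
  · exact sum_congr rfl fun i hi => by rw [(mem_odds.1 hi).neg_one_pow]; ring
  · rw [sum_eq_single (mid m)]
    · rw [(Nat.not_odd_iff_even.1 (mid_even hm)).neg_one_pow, one_mul]
    · intro i hi hne
      rw [he i (fun h => (mem_compl.1 hi) (mem_odds.2 h)) hne, mul_zero]
    · intro h
      exact absurd (mem_compl.2 fun h' => mid_even hm (mem_odds.1 h')) h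

end Vec

end Cfsg.Agent.H36.Wreath
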