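import Cfsg.Agent.H36.Wreath.Cyclic

/-!
# The value at the involution of an exceptional constituent
-/

set_option autoImplicit false

namespace Cfsg.Agent.H36.Wreath

open Finset

variable {m : ℕ}

theorem four_le (hm : 2 ≤ m) : (4 : ℤ) ≤ 2 ^ m := by
  have h := pow_le_pow_right₀ (show (1 : ℤ) ≤ 2 by norm_num) hm
  norm_num at h
  exact h

theorem three_le_card {S : Finset (ZMod (2 ^ m) × ZMod (2 ^ m))}
    (hS : ∀ p ∈ S, rot p ∈ S) {p : ZMod (2 ^ m) × ZMod (2 ^ m)} (hp : p ∈ S) (hp0 : p ≠ 0) :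
    3 ≤ S.card := by
  classical
  rw [← card_orbit hp0]
  refine card_le_card ?_
  simp only [insert_subset_iff, singleton_subset_iff]
  exact ⟨hp, hS _ hp, hS _ (hS _ hp)⟩

namespace Vec

variable (V : Vec m)

theorem card_pairs (m : ℕ) : (Fintype.card (ZMod (2 ^ m) × ZMod (2 ^ m)) : ℤ) = (2 ^ m) ^ 2 := by
  rw [Fintype.card_prod, ZMod.card]; push_cast; ring

/-- A weak budget on the torus `A × A` makes `c` constant away from the origin. -/
theorem c_const (hm : 2 ≤ m) (hC : spread V.cp * (2 ^ m + 1) < 12 * (2 ^ m) ^ 2) :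
    ∀ p, p ≠ 0 → V.cp p = V.cp (half m, half m) := by
  classical
  have hx := four_le hm
  have key : ∀ p q : ZMod (2 ^ m) × ZMod (2 ^ m), p ≠ 0 → q ≠ 0 → ¬ V.cp p < V.cp q := by
    intro p q hp hq hlt
    have h1 := three_le_card (V.rot_mem_above (V.cp p)) (mem_above.2 hlt) hq
    have h2 := three_le_card (V.rot_mem_compl (V.cp p)) (p := p)
      (mem_compl.2 fun h => lt_irrefl _ (mem_above.1 h)) hp
    rw [card_compl] at h2
    have h3 := spread_ge_one V.cp (V.cp p)
    have h4 := card_pairs m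
    have hle := card_le_univ (above V.cp (V.cp p))
    have h1' : (3 : ℤ) ≤ ((above V.cp (V.cp p)).card : ℤ) := by exact_mod_cast h1
    have h2' : ((above V.cp (V.cp p)).card : ℤ) + 3 ≤
        (Fintype.card (ZMod (2 ^ m) × ZMod (2 ^ m)) : ℤ) := by omega
    rw [h4] at h3 h2'
    generalize ((above V.cp (V.cp p)).card : ℤ) = s at h1' h2' h3
    generalize (2 : ℤ) ^ m = x at hx h2' h3 hC
    have h5 : 3 * (x ^ 2 - 3) ≤ s * (x ^ 2 - s) := by nlinarith
    nlinarith
  intro p hp
  have hh : ((half m, half m) : ZMod (2 ^ m) × ZMod (2 ^ m)) ≠ 0 := by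
    simp [half_ne_zero (show 1 ≤ m by omega)]
  exact le_antisymm (not_lt.1 (key _ _ hh hp)) (not_lt.1 (key _ _ hp hh))

set_option maxHeartbeats 1000000 in
/-- The exceptional constituent. -/
theorem val2_exceptional_pos (hm : 2 ≤ m) {i₀ : ZMod (2 ^ (m + 1))} (hi₀ : Odd i₀.val)
    (h : ∀ i : ZMod (2 ^ (m + 1)), Odd i.val →
      V.co i = if i = i₀ ∨ i = i₀ + mid m then 1 else 0) (Q : ℤ) :
    V.val2 Q = 2 * (1 - Q) := by
  classical
  have hm1 : 1 ≤ m := by omega
  have hu : ∀ i : ZMod (2 ^ (m + 1)), Odd i.val →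
      V.u i = if i = i₀ ∨ i = i₀ + mid m then -1 else 0 := fun i hi => by
    have h' := h i hi
    simp only [co] at h'
    simp only [u]
    split_ifs at h' ⊢ <;> omega
  have hodd2 : Odd (i₀ + mid m).val := by
    by_contra hne
    have := even_add_mid hm1 hne
    rw [add_assoc, mid_add_mid, add_zero] at this
    exact this hi₀
  have hfil : ((odds m).filter fun i => i = i₀ ∨ i = i₀ + mid m) = {i₀, i₀ + mid m} := by
    ext i
    simp only [mem_filter, mem_insert, mem_singleton, mem_odds]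
    refine ⟨fun h => h.2, fun h => ⟨?_, h⟩⟩
    rcases h with rfl | rfl <;> assumption
  have hU : ∑ i ∈ odds m, V.u i = -2 := by
    rw [sum_congr rfl fun i hi => hu i (mem_odds.1 hi), ← sum_filter, hfil,
      sum_pair (add_mid_ne i₀).symm]
    norm_num
  have hU2 : ∑ i ∈ odds m, V.u i ^ 2 = 2 := by
    rw [sum_congr rfl fun i hi => by rw [hu i (mem_odds.1 hi)]]
    simp only [ite_pow, neg_one_sq, zero_pow two_ne_zero]
    rw [← sum_filter, hfil, sum_pair (add_mid_ne i₀).symm]
    norm_num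
  have hx := four_le hm
  have hB := V.budget'
  have hsC0 := spread_nonneg V.cp
  -- `c` is constant away from the origin, and nearly at it
  have hsE : 2 * 2 ^ m * ((2 ^ m + 1) * 2 - 4) ≤ (2 ^ m + 1 : ℤ) * spread V.d := by
    simpa [hU, hU2] using V.part_d ∅ (by simp)
  have hK := V.c_const hm (by
    generalize (2 : ℤ) ^ m = x at hx hB hsE ⊢
    nlinarith)
  set K := V.cp (half m, half m)
  set e := V.cp 0 - K with he
  have hcp : ∀ p, V.cp p = K + if p = 0 then e else 0 := fun p => by
    split_ifs with hp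
    · rw [hp, he]; ring
    · rw [hK p hp, add_zero]
  have hspC : spread V.cp = ((2 ^ m) ^ 2 - 1) * e ^ 2 := by
    rw [← spread_sub_const V.cp K, spread]
    simp only [hcp, add_sub_cancel_left, ite_pow, zero_pow two_ne_zero, sum_ite_eq', mem_univ,
      if_true, card_pairs]
    ring
  have hpush : ∀ w, V.pushC w = 2 ^ m * K + if w = 0 then e else 0 := fun w => by
    have hc : ∀ a, V.c a (w - a) = K + if a = 0 ∧ w = 0 then e else 0 := fun a => by
      rw [show V.c a (w - a) = V.cp (a, w - a) from rfl, hcp]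
      congr 1
      refine if_congr ?_ rfl rfl
      simp only [Prod.mk_eq_zero]
      exact and_congr_right fun ha => by rw [ha, sub_zero]
    rw [pushC, sum_congr rfl fun a _ => hc a, sum_add_distrib, sum_const, card_univ, ZMod.card,
      nsmul_eq_mul]
    push_cast
    congr 1
    split_ifs with hw <;> simp [hw]
  have hpar : ∀ i : ZMod (2 ^ (m + 1)),
      Even ((if i = 0 ∨ i = mid m then e else 0) - (V.u i + V.u (i + mid m))) := fun i => by
    have h1 := V.parity_at (i₁ := 1) (by rw [one_val]; exact odd_one) i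
    have hne : ¬((1 : ZMod (2 ^ (m + 1))) = 0 ∨ (1 : ZMod (2 ^ (m + 1))) = mid m) := by
      rintro (hc | hc) <;> have := congrArg ZMod.val hc <;> rw [one_val] at this
      · simp at this
      · rw [val_mid] at this
        exact absurd this.symm (Nat.one_lt_two_pow (by omega)).ne'
    rw [hpush, hpush, V.pairD_u] at h1
    simp only [cast_eq_zero_iff, if_neg hne] at h1
    rcases h1 with ⟨a, ha⟩
    exact ⟨a + V.d 0, by linarith⟩
  -- all even entries are small
  have hsmall : ∀ i : ZMod (2 ^ (m + 1)), ¬ Odd i.val → -1 ≤ V.u i ∧ V.u i ≤ 1 := by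
    intro i hi
    rcases eq_or_ne i 0 with rfl | hi0
    · simp [u]
    have h1 := V.part_d {i} (fun j hj => by rw [mem_singleton.1 hj]; exact ⟨hi, hi0⟩)
    simp only [card_singleton, sum_singleton, hU, hU2, Nat.cast_one] at h1
    by_contra hc
    have h4 : 4 ≤ V.u i ^ 2 := by
      rcases not_and_or.1 hc with h' | h' <;> nlinarith
    generalize V.u i = y at h1 h4
    generalize (2 : ℤ) ^ m = x at hx h1 hB
    have hlt : spread V.d < 4 * x := lt_of_mul_lt_mul_left
      (show (3 * x) * spread V.d < (3 * x) * (4 * x) by nlinarith) (by nlinarith)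
    have h5 : (x + 1 + 1) * (2 + y ^ 2) - (-2 + y) ^ 2 < 2 * (x + 2) := lt_of_mul_lt_mul_left
      (show (2 * x) * ((x + 1 + 1) * (2 + y ^ 2) - (-2 + y) ^ 2) < (2 * x) * (2 * (x + 2)) by
        nlinarith) (by nlinarith)
    nlinarith [sq_nonneg (y + 2), mul_le_mul hx h4 (by norm_num) (by linarith)]
  have hmidT : ¬ Odd (mid m).val ∧ mid m ≠ 0 := ⟨mid_even hm1, mid_ne_zero m⟩
  have hmidpar : Even (e - V.u (mid m)) := by
    have h0 := hpar 0
    rw [zero_add, if_pos (Or.inl rfl)] at h0
    simpa [u] using h0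
  -- a deviant pair is too expensive
  have key : ∀ i : ZMod (2 ^ (m + 1)), ¬ Odd i.val → i ≠ 0 → i ≠ mid m →
      2 * 2 ^ m * ((2 ^ m + 4) * (2 + V.u (mid m) ^ 2 + 2 * V.u i ^ 2) -
        (-2 + V.u (mid m) + V.u i + V.u (i + mid m)) ^ 2) ≤ (2 ^ m + 4 : ℤ) * spread V.d ∧
      V.u (i + mid m) ^ 2 = V.u i ^ 2 := by
    intro i hi h0 hne
    have hi' := even_add_mid hm1 hi
    have hne0 : i + mid m ≠ 0 := fun hc => hne (by
      rw [eq_neg_of_add_eq_zero_left hc]; exact neg_half (m := m + 1) (by omega))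
    have hne1 : mid m ≠ i + mid m := fun hc => h0 (add_eq_right.1 hc.symm)
    have hd := hpar i
    rw [if_neg (by tauto), zero_sub, even_neg] at hd
    have hsq : V.u (i + mid m) ^ 2 = V.u i ^ 2 := by
      obtain ⟨b1, b1'⟩ := hsmall i hi
      obtain ⟨b2, b2'⟩ := hsmall _ hi'
      rcases hd with ⟨a, ha⟩
      interval_cases (V.u i) <;> interval_cases (V.u (i + mid m)) <;> omega
    refine ⟨?_, hsq⟩
    have h1 := V.part_d {mid m, i, i + mid m} (by
      simp only [mem_insert, mem_singleton, forall_eq_or_imp, forall_eq]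
      exact ⟨hmidT, ⟨hi, h0⟩, hi', hne0⟩)
    have hnm : mid m ∉ ({i, i + mid m} : Finset _) := by simp [hne.symm, hne1]
    rw [card_insert_of_notMem hnm, card_pair (add_mid_ne i).symm, sum_insert hnm, sum_insert hnm,
      sum_pair (add_mid_ne i).symm, sum_pair (add_mid_ne i).symm, hU, hU2, hsq] at h1
    push_cast at h1
    convert h1 using 2 <;> ring
  have hsE' : spread V.d < 4 * 2 ^ m := by
    generalize (2 : ℤ) ^ m = x at hx hB ⊢
    nlinarith
  have hme : V.u (mid m) = 0 ∧ e = 0 := by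
    have b := hsmall _ hmidT.1
    by_contra hne
    -- an index with image of order two on the centre
    set a : ZMod (2 ^ (m + 1)) := ((2 ^ (m - 1) : ℕ) : ZMod (2 ^ (m + 1)))
    have hav : a.val = 2 ^ (m - 1) :=
      ZMod.val_natCast_of_lt (Nat.pow_lt_pow_right (by norm_num) (by omega))
    have ha1 : ¬ Odd a.val := by
      rw [hav, Nat.not_odd_iff_even]; exact Nat.even_pow.2 ⟨even_two, by omega⟩
    have ha0 : a ≠ 0 := fun hc => by
      rw [hc, ZMod.val_zero] at hav; exact absurd hav.symm (by positivity)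
    have ham : a ≠ mid m := fun hc => by
      rw [hc, val_mid] at hav
      exact absurd hav (half_lt hm1).ne'
    obtain ⟨h1, h2⟩ := key a ha1 ha0 ham
    obtain ⟨b1, b1'⟩ := hsmall a ha1
    obtain ⟨b2, b2'⟩ := hsmall _ (even_add_mid hm1 ha1)
    obtain ⟨b3, b3'⟩ := b
    have hy : V.u (mid m) ^ 2 = 1 ∧ 1 ≤ e ^ 2 := by
      rcases hmidpar with ⟨r, hr⟩
      rcases eq_or_ne (V.u (mid m)) 0 with h0 | h0
      · -- then `e` is even and not zero, too large
        exfalso
        have he2 : 4 ≤ e ^ 2 := by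
          have : e ≠ 0 := fun hc => hne ⟨h0, hc⟩
          rw [h0, sub_zero] at hr
          rw [hr] at this ⊢
          nlinarith [Int.one_le_abs (show r ≠ 0 by omega), sq_abs r]
        rw [hspC] at hB
        generalize (2 : ℤ) ^ m = x at hx hB hsE
        have hA := mul_le_mul_of_nonneg_left hsE (show (0 : ℤ) ≤ 3 * x by linarith)
        have hB' := mul_lt_mul_of_pos_right hB (show (0 : ℤ) < x + 1 by linarith)
        have he4 := mul_le_mul_of_nonneg_left he2
          (show (0 : ℤ) ≤ 2 * (x ^ 2 - 1) * (x + 1) by nlinarith)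
        nlinarith [mul_le_mul hx hx (by norm_num) (by linarith)]
      · have : e ≠ 0 := fun hc => by omega
        exact ⟨by rcases (show V.u (mid m) = -1 ∨ V.u (mid m) = 1 by omega) with h | h <;>
          simp [h], by nlinarith [Int.one_le_abs this, sq_abs e]⟩
    have h3 : 2 * (2 : ℤ) ^ m * (3 * 2 ^ m + 3) ≤ (2 ^ m + 4) * spread V.d := by
      refine le_trans (mul_le_mul_of_nonneg_left ?_ (by positivity)) h1
      rw [hy.1]
      generalize (2 : ℤ) ^ m = x at hx ⊢
      have hy1 := hy.1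
      generalize V.u a = p at b1 b1' h2 ⊢
      generalize V.u (a + mid m) = q at b2 b2' h2 ⊢
      generalize V.u (mid m) = r at b3 b3' hy1 ⊢
      interval_cases p <;> interval_cases q <;> interval_cases r <;>
        linarith
    rw [hspC] at hB
    generalize (2 : ℤ) ^ m = x at hx hB h3
    have hA := mul_le_mul_of_nonneg_left h3 (show (0 : ℤ) ≤ 3 * x by linarith)
    have hB' := mul_lt_mul_of_pos_right hB (show (0 : ℤ) < x + 4 by linarith)
    have he4 := mul_le_mul_of_nonneg_left hy.2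
      (show (0 : ℤ) ≤ 2 * (x ^ 2 - 1) * (x + 4) by nlinarith)
    nlinarith [mul_le_mul hx hx (by norm_num) (by linarith)]
  obtain ⟨hum, he0⟩ := hme
  have heven : ∀ i : ZMod (2 ^ (m + 1)), ¬ Odd i.val → i ≠ mid m → V.u i = 0 := by
    intro i hi hne
    rcases eq_or_ne i 0 with rfl | h0
    · simp [u]
    by_contra hc
    obtain ⟨h1, h2⟩ := key i hi h0 hne
    obtain ⟨b1, b1'⟩ := hsmall i hi
    obtain ⟨b2, b2'⟩ := hsmall _ (even_add_mid hm1 hi)
    rw [hum] at h1
    generalize (2 : ℤ) ^ m = x at hx hsE' h1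
    generalize V.u (i + mid m) = z at b2 b2' h2 h1
    generalize V.u i = y at b1 b1' h2 h1 hc
    interval_cases y <;> interval_cases z <;>
      first | exact hc rfl | (norm_num at h2; done) | nlinarith
  have hA : V.valA = 0 := by
    have hs := sum_sign hm1
    have hc : ∀ a b, V.c a b = K := fun a b => by
      rw [show V.c a b = V.cp (a, b) from rfl, hcp, he0, ite_self, add_zero]
    simp only [valA, hc, pow_add, mul_assoc, ← mul_sum, ← sum_mul, hs, zero_mul]
  rw [val2, hA, V.valE_split (-2) hU hm1 heven, hum]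
  ring

/-- An exceptional constituent takes the value `± (1 - Q)`. -/
theorem val2_exceptional (hm : 2 ≤ m) {i₀ : ZMod (2 ^ (m + 1))} (hi₀ : Odd i₀.val) {ε : ℤ}
    (hε : ε = 1 ∨ ε = -1)
    (h : ∀ i : ZMod (2 ^ (m + 1)), Odd i.val →
      V.co i = if i = i₀ ∨ i = i₀ + mid m then ε else 0) (Q : ℤ) :
    V.val2 Q = 2 * ε * (1 - Q) := by
  rcases hε with rfl | rfl
  · rw [V.val2_exceptional_pos hm hi₀ h, mul_one]
  · have h' := V.neg.val2_exceptional_pos hm hi₀ (fun i hi => by
      rw [co_neg, h i hi]; split_ifs <;> simp) Q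
    rw [val2_neg] at h'
    linarith

end Vec

end Cfsg.Agent.H36.Wreath
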