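import Cfsg.Agent.H36.Wreath.Base

/-!
# Symmetries, budget and parity in usable form
-/

set_option autoImplicit false

namespace Cfsg.Agent.H36.Wreath.Vec

open Finset

variable {m : ℕ} (V : Vec m)

/-- `c` on pairs. -/
def cp (p : ZMod (2 ^ m) × ZMod (2 ^ m)) : ℤ := V.c p.1 p.2

theorem cp_rot (p : ZMod (2 ^ m) × ZMod (2 ^ m)) : V.cp (rot p) = V.cp p := by
  show V.c (p.2 - p.1) (-p.1) = V.c p.1 p.2
  rw [V.c_swap, V.c_rot]

theorem c_half_zero (hm : 1 ≤ m) : V.c (half m) 0 = V.c (half m) (half m) := by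
  rw [← V.c_rot (half m) (half m), sub_self, neg_half hm]

theorem c_zero_half (hm : 1 ≤ m) : V.c 0 (half m) = V.c (half m) (half m) := by
  rw [V.c_swap, V.c_half_zero hm]

theorem rot_mem_above (k : ℤ) : ∀ p ∈ above V.cp k, rot p ∈ above V.cp k := fun p hp => by
  rw [mem_above, V.cp_rot]; exact mem_above.1 hp

theorem rot_mem_compl (k : ℤ) : ∀ p ∈ (above V.cp k)ᶜ, rot p ∈ (above V.cp k)ᶜ := fun p hp => by
  rw [mem_compl, mem_above, V.cp_rot]; exact fun h => (mem_compl.1 hp) (mem_above.2 h)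

/-- The budget without the common factor. -/
theorem budget' : 2 * spread V.cp + 3 * 2 ^ m * spread V.d < 12 * (2 ^ m) ^ 2 := by
  have h := V.budget
  change (2 : ℤ) ^ (m + 1) * spread V.cp + _ < _ at h
  have e : (4 : ℤ) ^ m = (2 ^ m) ^ 2 := by
    rw [← pow_mul, mul_comm, pow_mul]; norm_num
  rw [e, pow_succ] at h
  refine lt_of_mul_lt_mul_left (a := (2 : ℤ) ^ m) ?_ (by positivity)
  linarith [show (2 : ℤ) ^ m * (2 * spread V.cp + 3 * 2 ^ m * spread V.d) =
    2 ^ m * 2 * spread V.cp + 3 * (2 ^ m) ^ 2 * spread V.d by ring,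
    show (2 : ℤ) ^ m * (12 * (2 ^ m) ^ 2) = 6 * ((2 ^ m) ^ 2 * (2 ^ m * 2)) by ring]

theorem d_odd {i : ZMod (2 ^ (m + 1))} (hi : Odd i.val) : V.d (i + mid m) = V.d i := by
  conv_rhs => rw [← V.d_pair i]
  congr 2
  obtain ⟨r, hr⟩ := hi
  rw [mid, hr, Nat.cast_mul, Nat.cast_add, Nat.cast_mul]
  have h := mid_add_mid m
  simp only [mid] at h
  linear_combination (-(r : ZMod (2 ^ (m + 1)))) * h

/-- The sum of `d` over two entries with one image on the central part. -/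
def pairD (i : ZMod (2 ^ (m + 1))) : ℤ := V.d i + V.d (i + mid m)

/-- The sum of `c` over one coset of the kernel of the restriction to the centre. -/
def pushC (w : ZMod (2 ^ m)) : ℤ := ∑ a, V.c a (w - a)

theorem parity' : ∃ k : ℤ, ∀ i : ZMod (2 ^ (m + 1)),
    Even (V.pushC ((i.val : ℕ) : ZMod (2 ^ m)) - V.pairD i - k) := by
  obtain ⟨k, hk⟩ := V.parity
  refine ⟨k, fun i => ?_⟩
  have h := hk ((i.val : ℕ) : ZMod (2 ^ m))
  rwa [fibre, sum_pair (add_mid_ne i).symm] at h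

/-- The parity of `c` pushed to the centre compared with that of the odd entries. -/
theorem parity_at {i₁ : ZMod (2 ^ (m + 1))} (hi₁ : Odd i₁.val) (i : ZMod (2 ^ (m + 1))) :
    Even (V.pushC ((i.val : ℕ) : ZMod (2 ^ m)) - V.pushC ((i₁.val : ℕ) : ZMod (2 ^ m)) -
      V.pairD i) := by
  obtain ⟨k, hk⟩ := V.parity'
  have h1 := hk i₁
  rw [pairD, V.d_odd hi₁] at h1
  rcases hk i with ⟨a, ha⟩
  rcases h1 with ⟨b, hb⟩
  exact ⟨a - b - V.d i₁, by linarith⟩

/-- The opposite vectors. -/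
def neg : Vec m where
  c a b := -V.c a b
  d i := -V.d i
  c_swap a b := by rw [V.c_swap]
  c_rot a b := by rw [V.c_rot]
  d_pair i := by rw [V.d_pair]
  budget := by
    rw [spread_neg (fun p : ZMod (2 ^ m) × ZMod (2 ^ m) => V.c p.1 p.2), spread_neg V.d]
    exact V.budget
  parity := by
    obtain ⟨k, hk⟩ := V.parity
    refine ⟨-k, fun w => ?_⟩
    rw [sum_neg_distrib, sum_neg_distrib]
    rcases hk w with ⟨a, ha⟩
    exact ⟨-a, by linarith⟩

theorem co_neg (i : ZMod (2 ^ (m + 1))) : V.neg.co i = -V.co i := by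
  simp only [co, neg]; ring

theorem coPsi_neg : V.neg.coPsi = -V.coPsi := by
  simp only [coPsi, co, neg]; ring

theorem val2_neg (Q : ℤ) : V.neg.val2 Q = -V.val2 Q := by
  simp only [val2, valA, valE, neg, mul_neg, sum_neg_distrib]; ring

end Cfsg.Agent.H36.Wreath.Vec
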