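import Cfsg.Agent.H36.Wreath.Shared
import Cfsg.Agent.H84.WR.Funs

/-!
# The two rules coming from the norm budget
-/

set_option autoImplicit false

namespace Cfsg.Agent.H36.Wreath

/-- The rules hold for every `m ≥ 2` and every `Q`. -/
theorem budgetRules {m : ℕ} (hm : 2 ≤ m) (Q : ℤ) : H84.WR.BudgetRules m Q where
  exceptional V _ _ hε hi₀ h := V.val2_exceptional hm hi₀ hε h Q
  common V _ hε hodd hmid hψ := V.val2_common hm hε hodd hmid hψ Q

end Cfsg.Agent.H36.Wreath
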