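import Cfsg.Agent.H36.Wreath.SharedShape

/-!
# The value at the involution of the common constituent
-/

set_option autoImplicit false

namespace Cfsg.Agent.H36.Wreath

open Finset

variable {m : ℕ}

/-- The sign of a character of the torus. -/
def sgnP (p : ZMod (2 ^ m) × ZMod (2 ^ m)) : ℤ := (-1) ^ (p.1.val + p.2.val)

theorem sum_sgnP (hm : 1 ≤ m) : ∑ p : ZMod (2 ^ m) × ZMod (2 ^ m), sgnP p = 0 := by
  simp only [sgnP, pow_add, Fintype.sum_prod_type, ← mul_sum, sum_sign hm, mul_zero, sum_const_zero]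

namespace Vec

variable (V : Vec m)

theorem valA_eq : V.valA = ∑ p, sgnP p * V.cp p := by
  simp only [valA, sgnP, cp, Fintype.sum_prod_type]

/-- A two-valued torus vector. -/
theorem twoVal (hm : 1 ≤ m) {K e : ℤ} {S : Finset (ZMod (2 ^ m) × ZMod (2 ^ m))}
    (h : ∀ p, V.cp p = K + if p ∈ S then e else 0) :
    spread V.cp = e ^ 2 * ((S.card : ℤ) * ((2 ^ m) ^ 2 - S.card)) ∧
      (∀ w, V.pushC w = 2 ^ m * K + e * ∑ p ∈ S, if p.1 + p.2 = w then 1 else 0) ∧
      V.valA = e * ∑ p ∈ S, sgnP p := by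
  classical
  refine ⟨?_, fun w => ?_, ?_⟩
  · rw [← spread_sub_const V.cp K, spread]
    simp only [h, add_sub_cancel_left, ite_pow, zero_pow two_ne_zero, sum_ite_mem, univ_inter,
      sum_const, nsmul_eq_mul, card_pairs]
    ring
  · have hc : ∀ a, V.c a (w - a) = K + if (a, w - a) ∈ S then e else 0 := fun a => h (a, w - a)
    rw [pushC, sum_congr rfl fun a _ => hc a, sum_add_distrib, sum_const, card_univ, ZMod.card,
      nsmul_eq_mul]
    push_cast
    congr 1
    rw [sum_boole, ← sum_filter, sum_const, nsmul_eq_mul, mul_comm]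
    congr 2
    refine card_bij (fun a _ => (a, w - a)) (fun a ha => ?_) (fun a _ b _ hab => ?_)
      (fun p hp => ⟨p.1, ?_, ?_⟩)
    · exact mem_filter.2 ⟨(mem_filter.1 ha).2, add_sub_cancel a w⟩
    · exact congrArg Prod.fst hab
    · obtain ⟨h1, h2⟩ := mem_filter.1 hp
      refine mem_filter.2 ⟨mem_univ _, ?_⟩
      rwa [show (p.1, w - p.1) = p by rw [← h2, add_sub_cancel_left]]
    · rw [← (mem_filter.1 hp).2, add_sub_cancel_left]
  · rw [valA_eq]
    simp only [h, mul_add, sum_add_distrib, ← sum_mul, sum_sgnP hm, zero_mul, zero_add, mul_ite,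
      mul_zero, sum_ite_mem, univ_inter]
    rw [mul_comm]

set_option maxHeartbeats 800000 in
/-- The cyclic torus of the common constituent. -/
theorem valE_common (hm : 2 ≤ m) (hodd : ∀ i : ZMod (2 ^ (m + 1)), Odd i.val → V.u i = 0)
    (humid : V.u (mid m) = -1) (hsC : (2 ^ m) ^ 2 - 1 ≤ spread V.cp)
    (hpush : ∀ w : ZMod (2 ^ m), w ≠ 0 → Even (V.pushC w - V.pushC 1)) : V.valE = -1 := by
  classical
  have hm1 : 1 ≤ m := by omega
  have hx := four_le hm
  have hB := V.budget'
  have hU : ∑ i ∈ odds m, V.u i = 0 := sum_eq_zero fun i hi => hodd i (mem_odds.1 hi)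
  have hU2 : ∑ i ∈ odds m, V.u i ^ 2 = 0 :=
    sum_eq_zero fun i hi => by rw [hodd i (mem_odds.1 hi)]; norm_num
  have hmidT : ¬ Odd (mid m).val ∧ mid m ≠ 0 := ⟨mid_even hm1, mid_ne_zero m⟩
  have heven : ∀ i : ZMod (2 ^ (m + 1)), ¬ Odd i.val → i ≠ mid m → V.u i = 0 := by
    intro i hi hne
    rcases eq_or_ne i 0 with rfl | h0
    · simp [u]
    by_contra hc
    have hi' := even_add_mid hm1 hi
    have hne0 : i + mid m ≠ 0 := fun hc => hne (by
      rw [eq_neg_of_add_eq_zero_left hc]; exact neg_half (m := m + 1) (by omega))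
    have hne1 : mid m ≠ i + mid m := fun hc => h0 (add_eq_right.1 hc.symm)
    have hw : ((i.val : ℕ) : ZMod (2 ^ m)) ≠ 0 := fun h => by
      rcases (cast_eq_zero_iff i).1 h with h | h
      · exact h0 h
      · exact hne h
    have hpar : Even (V.u i + V.u (i + mid m)) := by
      have h1 := V.parity_at (i₁ := 1) (by rw [one_val]; exact odd_one) i
      rw [one_val, Nat.cast_one, V.pairD_u] at h1
      obtain ⟨a, ha⟩ := h1
      obtain ⟨b, hb⟩ := hpush _ hw
      exact ⟨b - a - V.d 0, by linarith⟩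
    have h1 := V.part_d {mid m, i, i + mid m} (by
      simp only [mem_insert, mem_singleton, forall_eq_or_imp, forall_eq]
      exact ⟨hmidT, ⟨hi, h0⟩, hi', hne0⟩)
    have hnm : mid m ∉ ({i, i + mid m} : Finset _) := by simp [hne.symm, hne1]
    rw [card_insert_of_notMem hnm, card_pair (add_mid_ne i).symm, sum_insert hnm, sum_insert hnm,
      sum_pair (add_mid_ne i).symm, sum_pair (add_mid_ne i).symm, hU, hU2, humid] at h1
    push_cast at h1
    generalize V.u (i + mid m) = z at hpar h1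
    generalize V.u i = y at hpar h1 hc
    have h2 : 2 ≤ y ^ 2 + z ^ 2 := by
      have hy : 1 ≤ y ^ 2 := by nlinarith [Int.one_le_abs hc, sq_abs y]
      rcases eq_or_ne z 0 with rfl | hz
      · obtain ⟨r, hr⟩ := hpar
        have : r ≠ 0 := by rintro rfl; omega
        nlinarith [Int.one_le_abs this, sq_abs r]
      · nlinarith [Int.one_le_abs hz, sq_abs z]
    generalize (2 : ℤ) ^ m = x at hx hB hsC h1
    have h3 : 3 * (x + 1) ≤ (x + 1 + 3) * (1 + (y ^ 2 + z ^ 2)) - (-1 + (y + z)) ^ 2 := by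
      nlinarith [sq_nonneg (y + 1), sq_nonneg (z + 1), sq_nonneg (y - z)]
    have h4 : 2 * x * (3 * (x + 1)) ≤ (x + 1 + 3) * spread V.d := by
      refine le_trans (mul_le_mul_of_nonneg_left h3 (by linarith)) ?_
      linarith [h1]
    have hA := mul_le_mul_of_nonneg_left h4 (show (0 : ℤ) ≤ 3 * x by linarith)
    have hB' := mul_lt_mul_of_pos_right hB (show (0 : ℤ) < x + 4 by linarith)
    have hC' := mul_le_mul_of_nonneg_right hsC (show (0 : ℤ) ≤ x + 4 by linarith)
    nlinarith [mul_le_mul hx hx (by norm_num) (by linarith)]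
  rw [V.valE_split 0 hU hm1 heven, humid]
  norm_num

/-- The third shape of the smallest torus is excluded. -/
theorem small_kill (V : Vec 2) (hodd : ∀ i : ZMod (2 ^ (2 + 1)), Odd i.val → V.u i = 0)
    (humid : V.u (mid 2) = -1) (h48 : 48 ≤ spread V.cp)
    (hne : ¬ Even (V.pushC 2 - V.pushC 1)) : False := by
  classical
  have hU : ∑ i ∈ odds 2, V.u i = 0 := sum_eq_zero fun i hi => hodd i (mem_odds.1 hi)
  have hU2 : ∑ i ∈ odds 2, V.u i ^ 2 = 0 :=
    sum_eq_zero fun i hi => by rw [hodd i (mem_odds.1 hi)]; norm_num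
  have h1 := V.parity_at (i₁ := 1) (by rw [one_val]; exact odd_one) 2
  rw [show (((2 : ZMod (2 ^ (2 + 1))).val : ℕ) : ZMod (2 ^ 2)) = 2 from rfl,
    show (((1 : ZMod (2 ^ (2 + 1))).val : ℕ) : ZMod (2 ^ 2)) = 1 from rfl, V.pairD_u,
    show (2 : ZMod (2 ^ (2 + 1))) + mid 2 = 6 from rfl] at h1
  have h2 := V.part_d {mid 2, 2, 6} (by decide)
  rw [sum_insert (by decide), sum_insert (by decide), sum_insert (by decide),
    sum_insert (by decide), sum_singleton, sum_singleton, hU, hU2, humid,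
    show (({mid 2, 2, 6} : Finset (ZMod (2 ^ (2 + 1))))).card = 3 by decide] at h2
  have hB := V.budget'
  obtain ⟨a, ha⟩ := h1
  have hz : V.u 2 ≠ 0 ∨ V.u 6 ≠ 0 := by
    by_contra hc
    push Not at hc
    exact hne ⟨a + V.d 0, by linarith [hc.1, hc.2]⟩
  norm_num at h2 hB
  have h3 : 1 ≤ V.u 2 ^ 2 + V.u 6 ^ 2 := by
    rcases hz with h | h
    · nlinarith [Int.one_le_abs h, sq_abs (V.u 2)]
    · nlinarith [Int.one_le_abs h, sq_abs (V.u 6)]
  nlinarith [sq_nonneg (V.u 2 + 1), sq_nonneg (V.u 6 + 1), sq_nonneg (V.u 2 - V.u 6)]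

/-- The common constituent, positive sign. -/
theorem val2_common_pos (hm : 2 ≤ m)
    (hodd : ∀ i : ZMod (2 ^ (m + 1)), Odd i.val → V.co i = 0) (hmid : V.co (mid m) = 1)
    (hψ : V.coPsi = 2) (Q : ℤ) : V.val2 Q = 2 * Q ∨ V.val2 Q = 2 * (-Q - 2) := by
  classical
  have hm1 : 1 ≤ m := by omega
  have hu : ∀ i : ZMod (2 ^ (m + 1)), Odd i.val → V.u i = 0 := fun i hi => by
    have := hodd i hi; simp only [co] at this; simp only [u]; omega
  have humid : V.u (mid m) = -1 := by
    simp only [co] at hmid; simp only [u]; omega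
  have h00 : V.cp 0 = V.cp (half m, half m) + 1 := by
    rw [coPsi, ← mid, hmid] at hψ
    show V.c 0 0 = V.c (half m) (half m) + 1
    simp only [half] at hψ ⊢
    omega
  have hx := four_le hm
  have hB := V.budget'
  have hC : spread V.cp * (2 ^ m + 2) < 3 * (2 ^ m) ^ 2 * (2 ^ m + 3) := by
    have h1 := V.part_d {mid m} (fun j hj => by
      rw [mem_singleton.1 hj]; exact ⟨mid_even hm1, mid_ne_zero m⟩)
    have hU : ∑ i ∈ odds m, V.u i = 0 := sum_eq_zero fun i hi => hu i (mem_odds.1 hi)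
    have hU2 : ∑ i ∈ odds m, V.u i ^ 2 = 0 :=
      sum_eq_zero fun i hi => by rw [hu i (mem_odds.1 hi)]; norm_num
    simp only [card_singleton, sum_singleton, hU, hU2, Nat.cast_one, humid] at h1
    norm_num at h1
    generalize (2 : ℤ) ^ m = x at hx hB h1 ⊢
    nlinarith
  have hshape : V.Shape := by
    rcases eq_or_lt_of_le hm with rfl | hm3
    · norm_num at hC
      rcases V.shape_small h00 (by omega) with h | ⟨h48, hne⟩
      · exact h
      · exact (small_kill V hu humid h48 hne).elim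
    · exact V.shape_big hm3 h00 hC
  have h1h : (1 : ZMod (2 ^ m)) ≠ 0 ∧ (1 : ZMod (2 ^ m)) ≠ half m := by
    have : Fact (1 < 2 ^ m) := ⟨Nat.one_lt_two_pow (by omega)⟩
    refine ⟨one_ne_zero, fun hc => ?_⟩
    have h := congrArg ZMod.val hc
    rw [ZMod.val_one, val_half hm1] at h
    exact absurd h.symm (Nat.one_lt_two_pow (by omega)).ne'
  have hhe : Even (half m).val := by
    rw [val_half hm1]; exact Nat.even_pow.2 ⟨even_two, by omega⟩
  set H := V.cp (half m, half m)
  rcases hshape with h | h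
  · left
    have hcp : ∀ p, V.cp p = H + if p ∈ ({0} : Finset _) then 1 else 0 := fun p => by
      rcases eq_or_ne p 0 with rfl | hp
      · rw [if_pos (mem_singleton_self _), h00]
      · rw [if_neg (by simp [hp]), h p hp, add_zero]
    obtain ⟨hs, hp, hA⟩ := V.twoVal hm1 hcp
    rw [sum_singleton, show sgnP (0 : ZMod (2 ^ m) × ZMod (2 ^ m)) = 1 by simp [sgnP], one_mul] at hA
    have hE := V.valE_common hm hu humid (by rw [hs, card_singleton]; push_cast; linarith)
      (fun w hw => by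
        rw [hp, hp, sum_singleton, sum_singleton]
        simp [hw.symm, h1h.1.symm])
    rw [val2, hA, hE]
    ring
  · right
    have hcp : ∀ p, V.cp p = (H + 1) + if p ∈ Oh m then -1 else 0 := fun p => by
      by_cases hp : p ∈ Oh m
      · rw [if_pos hp, V.cp_Oh hm1 hp]; ring
      · rw [if_neg hp, h p hp, add_zero]
    obtain ⟨hs, hp, hA⟩ := V.twoVal hm1 hcp
    have hn1 : (half m, half m) ∉ ({(half m, 0), (0, half m)} : Finset _) := by
      simp [half_ne_zero hm1]
    have hn2 : ((half m, 0) : ZMod (2 ^ m) × ZMod (2 ^ m)) ≠ (0, half m) := by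
      simp [half_ne_zero hm1]
    have hcard : (Oh m).card = 3 := by rw [Oh, card_insert_of_notMem hn1, card_pair hn2]
    have hsum : ∀ f : ZMod (2 ^ m) × ZMod (2 ^ m) → ℤ,
        ∑ p ∈ Oh m, f p = f (half m, half m) + f (half m, 0) + f (0, half m) := fun f => by
      rw [Oh, sum_insert hn1, sum_pair hn2]; ring
    rw [hsum] at hA
    simp only [sgnP, ZMod.val_zero, add_zero, zero_add, hhe.neg_one_pow,
      (hhe.add hhe).neg_one_pow] at hA
    have hE := V.valE_common hm hu humid (by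
      rw [hs, hcard]; push_cast; nlinarith)
      (fun w hw => by
        rw [hp, hp, hsum, hsum]
        simp only [add_zero, zero_add, half_add_half hm1, hw.symm, h1h.1.symm, h1h.2.symm,
          if_false]
        split_ifs
        · exact ⟨-1, by ring⟩
        · exact ⟨0, by ring⟩)
    rw [val2, hA, hE]
    ring

/-- The common constituent takes the value `± Q` or `± (-Q - 2)`. -/
theorem val2_common (hm : 2 ≤ m) {ε : ℤ} (hε : ε = 1 ∨ ε = -1)
    (hodd : ∀ i : ZMod (2 ^ (m + 1)), Odd i.val → V.co i = 0) (hmid : V.co (mid m) = ε)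
    (hψ : V.coPsi = 2 * ε) (Q : ℤ) :
    V.val2 Q = 2 * (ε * Q) ∨ V.val2 Q = 2 * (ε * (-Q - 2)) := by
  rcases hε with rfl | rfl
  · simpa using V.val2_common_pos hm hodd hmid (by simpa using hψ) Q
  · have h := V.neg.val2_common_pos hm (fun i hi => by rw [co_neg, hodd i hi, neg_zero])
      (by rw [co_neg, hmid]; norm_num) (by rw [coPsi_neg, hψ]; norm_num) Q
    rw [val2_neg] at h
    rcases h with h | h
    · left; linarith
    · right; linarith

end Vec

end Cfsg.Agent.H36.Wreath
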