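import Cfsg.Agent.H36.Wreath.Exceptional

/-!
# The torus vector of the common constituent
-/

set_option autoImplicit false

namespace Cfsg.Agent.H36.Wreath

open Finset

variable {m : ℕ}

open scoped Classical in
/-- The involutions of the torus, as a set of characters. -/
def Oh (m : ℕ) : Finset (ZMod (2 ^ m) × ZMod (2 ^ m)) :=
  {(half m, half m), (half m, 0), (0, half m)}

theorem mem_Oh {p : ZMod (2 ^ m) × ZMod (2 ^ m)} :
    p ∈ Oh m ↔ p = (half m, half m) ∨ p = (half m, 0) ∨ p = (0, half m) := by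
  classical simp [Oh]

theorem half_pair_ne_zero (hm : 1 ≤ m) : ((half m, half m) : ZMod (2 ^ m) × ZMod (2 ^ m)) ≠ 0 := by
  simp [half_ne_zero hm]

namespace Vec

variable (V : Vec m)

theorem cp_Oh (hm : 1 ≤ m) {p : ZMod (2 ^ m) × ZMod (2 ^ m)} (hp : p ∈ Oh m) :
    V.cp p = V.cp (half m, half m) := by
  rcases mem_Oh.1 hp with rfl | rfl | rfl
  · rfl
  · exact V.c_half_zero hm
  · exact V.c_zero_half hm

/-- `c` equal to `H` off the origin, or to `H + 1` off the origin and `Oh`. -/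
def Shape : Prop :=
  (∀ p, p ≠ 0 → V.cp p = V.cp (half m, half m)) ∨
    (∀ p, p ∉ Oh m → V.cp p = V.cp (half m, half m) + 1)

/-- The shape for large tori. -/
theorem shape_big (hm : 3 ≤ m) (h00 : V.cp 0 = V.cp (half m, half m) + 1)
    (hC : spread V.cp * (2 ^ m + 2) < 3 * (2 ^ m) ^ 2 * (2 ^ m + 3)) : V.Shape := by
  classical
  have hm1 : 1 ≤ m := by omega
  set H := V.cp (half m, half m)
  have hx : (8 : ℤ) ≤ 2 ^ m := by
    have h := pow_le_pow_right₀ (show (1 : ℤ) ≤ 2 by norm_num) hm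
    norm_num at h
    exact h
  have hH : 1 ≤ (above V.cp H).card ∧
      (above V.cp H).card + 1 ≤ Fintype.card (ZMod (2 ^ m) × ZMod (2 ^ m)) := by
    refine ⟨card_pos.2 ⟨0, mem_above.2 (by omega)⟩, ?_⟩
    have : (above V.cp H) ⊂ univ := by
      rw [ssubset_univ_iff]
      intro h
      exact lt_irrefl _ (mem_above.1 (h.symm ▸ mem_univ ((half m, half m))))
    exact card_lt_card this
  -- two thresholds do not fit
  have two : ∀ k, k ≠ H → ∀ p q : ZMod (2 ^ m) × ZMod (2 ^ m), p ≠ 0 → q ≠ 0 →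
      V.cp p ≤ k → k < V.cp q → False := by
    intro k hk p q hp hq h1 h2
    have a1 := three_le_card (V.rot_mem_above k) (mem_above.2 h2) hq
    have a2 := three_le_card (V.rot_mem_compl k) (p := p)
      (mem_compl.2 fun h => absurd (mem_above.1 h) (not_lt.2 h1)) hp
    rw [card_compl] at a2
    have h3 := spread_ge_two V.cp hk
    have h4 := card_pairs m
    obtain ⟨b1, b2⟩ := hH
    have a2' : (above V.cp k).card + 3 ≤ Fintype.card (ZMod (2 ^ m) × ZMod (2 ^ m)) := by omega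
    have a1' : (3 : ℤ) ≤ ((above V.cp k).card : ℤ) := by exact_mod_cast a1
    have a3 : ((above V.cp k).card : ℤ) + 3 ≤
        (Fintype.card (ZMod (2 ^ m) × ZMod (2 ^ m)) : ℤ) := by exact_mod_cast a2'
    have b1' : (1 : ℤ) ≤ ((above V.cp H).card : ℤ) := by exact_mod_cast b1
    have b3 : ((above V.cp H).card : ℤ) + 1 ≤
        (Fintype.card (ZMod (2 ^ m) × ZMod (2 ^ m)) : ℤ) := by exact_mod_cast b2
    rw [h4] at h3 a3 b3
    generalize ((above V.cp k).card : ℤ) = s at a1' a3 h3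
    generalize ((above V.cp H).card : ℤ) = r at b1' b3 h3
    generalize (2 : ℤ) ^ m = x at hx a3 b3 h3 hC
    have h5 : 4 * x ^ 2 - 10 ≤ spread V.cp := by nlinarith
    nlinarith [mul_le_mul_of_nonneg_right h5 (show (0 : ℤ) ≤ x + 2 by linarith),
      mul_le_mul hx hx (by norm_num) (by linarith)]
  -- constant off the origin and `Oh`
  have hR : ∀ p q : ZMod (2 ^ m) × ZMod (2 ^ m), p ≠ 0 → q ≠ 0 → p ∉ Oh m → q ∉ Oh m →
      ¬ V.cp p < V.cp q := by
    intro p q hp hq hpO hqO hlt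
    by_cases hk : V.cp p = H
    · -- the threshold `H` alone is too expensive
      have hqS : q ∈ above V.cp H := mem_above.2 (by omega)
      have h0S : (0 : ZMod (2 ^ m) × ZMod (2 ^ m)) ∈ above V.cp H := mem_above.2 (by omega)
      have a1 : 4 ≤ (above V.cp H).card := by
        have := three_le_card (S := (above V.cp H).erase 0) (fun r hr => by
          rw [mem_erase] at hr ⊢
          exact ⟨rot_ne_zero hr.1, V.rot_mem_above H r hr.2⟩) (mem_erase.2 ⟨hq, hqS⟩) hq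
        rw [card_erase_of_mem h0S] at this
        omega
      have a2 : 4 ≤ (above V.cp H)ᶜ.card := by
        have hsub : insert p (Oh m) ⊆ (above V.cp H)ᶜ := by
          intro r hr
          rw [mem_compl, mem_above, not_lt]
          rcases mem_insert.1 hr with rfl | hr
          · exact hk.le
          · exact (V.cp_Oh hm1 hr).le
        refine le_trans (le_of_eq ?_) (card_le_card hsub)
        rw [card_insert_of_notMem hpO, Oh, card_insert_of_notMem
          (by simp [half_ne_zero hm1]), card_pair (by simp [half_ne_zero hm1])]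
      rw [card_compl] at a2
      have h3 := spread_ge_one V.cp H
      have h4 := card_pairs m
      have a2' : (above V.cp H).card + 4 ≤ Fintype.card (ZMod (2 ^ m) × ZMod (2 ^ m)) := by omega
      have a1' : (4 : ℤ) ≤ ((above V.cp H).card : ℤ) := by exact_mod_cast a1
      have a3 : ((above V.cp H).card : ℤ) + 4 ≤
          (Fintype.card (ZMod (2 ^ m) × ZMod (2 ^ m)) : ℤ) := by exact_mod_cast a2'
      rw [h4] at h3 a3
      generalize ((above V.cp H).card : ℤ) = s at a1' a3 h3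
      generalize (2 : ℤ) ^ m = x at hx a3 h3 hC
      have h5 : 4 * (x ^ 2 - 4) ≤ spread V.cp := by nlinarith
      nlinarith [mul_le_mul_of_nonneg_right h5 (show (0 : ℤ) ≤ x + 2 by linarith),
        mul_le_mul hx hx (by norm_num) (by linarith)]
    · exact two _ hk p q hp hq le_rfl hlt
  have h1h : (1 : ZMod (2 ^ m)) ≠ half m := fun hc => by
    have : Fact (1 < 2 ^ m) := ⟨Nat.one_lt_two_pow (by omega)⟩
    have h := congrArg ZMod.val hc
    rw [ZMod.val_one, val_half hm1] at h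
    exact absurd h.symm (Nat.one_lt_two_pow (by omega)).ne'
  have h10 : (1 : ZMod (2 ^ m)) ≠ 0 := fun hc => by
    have : Fact (1 < 2 ^ m) := ⟨Nat.one_lt_two_pow (by omega)⟩
    exact one_ne_zero hc
  have hr0 : ((1, 0) : ZMod (2 ^ m) × ZMod (2 ^ m)) ≠ 0 := by simp [h10]
  have hrO : ((1, 0) : ZMod (2 ^ m) × ZMod (2 ^ m)) ∉ Oh m := by simp [mem_Oh, h1h, h10]
  have hK : ∀ p, p ≠ 0 → p ∉ Oh m → V.cp p = V.cp (1, 0) := fun p hp hpO =>
    le_antisymm (not_lt.1 (hR _ _ hr0 hp hrO hpO)) (not_lt.1 (hR _ _ hp hr0 hpO hrO))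
  have hh := half_pair_ne_zero (m := m) hm1
  rcases lt_trichotomy (V.cp (1, 0)) H with h | h | h
  · exact (two (V.cp (1, 0)) h.ne (1, 0) _ hr0 hh le_rfl h).elim
  · refine Or.inl fun p hp => ?_
    by_cases hpO : p ∈ Oh m
    · exact V.cp_Oh hm1 hpO
    · rw [hK p hp hpO, h]
  · by_cases h' : V.cp (1, 0) = H + 1
    · refine Or.inr fun p hpO => ?_
      rcases eq_or_ne p 0 with rfl | hp
      · exact h00
      · rw [hK p hp hpO, h']
    · exact (two (H + 1) (by omega) _ (1, 0) hh hr0 (by omega) (by omega)).elim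

set_option maxHeartbeats 800000 in
/-- The shape for the smallest torus, with two more possibilities. -/
theorem shape_small (V : Vec 2) (h00 : V.cp 0 = V.cp (half 2, half 2) + 1)
    (hC : spread V.cp < 56) :
    V.Shape ∨ (48 ≤ spread V.cp ∧ ¬ Even (V.pushC 2 - V.pushC 1)) := by
  have hs : ∀ f : ZMod (2 ^ 2) → ℤ, ∑ a, f a = f 0 + f 1 + f 2 + f 3 := fun f => Fin.sum_univ_four f
  set H := V.cp (half 2, half 2) with hH
  have hh : (half 2 : ZMod (2 ^ 2)) = 2 := rfl
  set a := V.c 1 1 with ha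
  set b := V.c 3 3 with hb
  set g := V.c 1 2 with hg
  have e22 : V.c 2 2 = H := rfl
  have e00 : V.c 0 0 = H + 1 := h00
  have e20 : V.c 2 0 = H := (V.c_rot 2 2).trans e22
  have e02 : V.c 0 2 = H := (V.c_swap 2 0).trans e20
  have e30 : V.c 3 0 = a := V.c_rot 1 1
  have e03 : V.c 0 3 = a := (V.c_swap 3 0).trans e30
  have e10 : V.c 1 0 = b := V.c_rot 3 3
  have e01 : V.c 0 1 = b := (V.c_swap 1 0).trans e10
  have e21 : V.c 2 1 = g := V.c_swap 1 2
  have e31 : V.c 3 1 = g := V.c_rot 1 2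
  have e13 : V.c 1 3 = g := (V.c_swap 3 1).trans e31
  have e23 : V.c 2 3 = g := (V.c_rot 2 1).trans e21
  have e32 : V.c 3 2 = g := (V.c_swap 2 3).trans e23
  have hsp : spread V.cp = 16 * (1 + 3 * (a - H) ^ 2 + 3 * (b - H) ^ 2 + 6 * (g - H) ^ 2) -
      (1 + 3 * (a - H) + 3 * (b - H) + 6 * (g - H)) ^ 2 := by
    simp only [spread, Fintype.card_prod, ZMod.card, Fintype.sum_prod_type, hs, cp, e22, e00, e20,
      e02, e30, e03, e10, e01, e21, e31, e13, e23, e32, ← ha, ← hb, ← hg]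
    push_cast
    ring
  have hP : V.pushC 2 = V.c 0 2 + V.c 1 1 + V.c 2 0 + V.c 3 3 := hs _
  have hP1 : V.pushC 1 = V.c 0 1 + V.c 1 0 + V.c 2 3 + V.c 3 2 := hs _
  rw [e02, e20, ← ha, ← hb] at hP
  rw [e01, e10, e23, e32] at hP1
  obtain ⟨A, hA⟩ : ∃ A, a = H + A := ⟨a - H, by ring⟩
  obtain ⟨B, hB⟩ : ∃ B, b = H + B := ⟨b - H, by ring⟩
  obtain ⟨g', hg'⟩ : ∃ C, g = H + C := ⟨g - H, by ring⟩
  rw [hA, hB, hg', add_sub_cancel_left, add_sub_cancel_left, add_sub_cancel_left] at hsp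
  have hdec : spread V.cp = 3 + 9 * A ^ 2 + 9 * B ^ 2 + 18 * g' ^ 2 + 3 * (A - 1) ^ 2 +
      3 * (B - 1) ^ 2 + 6 * (g' - 1) ^ 2 + 9 * (A - B) ^ 2 + 18 * (A - g') ^ 2 +
      18 * (B - g') ^ 2 := by rw [hsp]; ring
  have small : ∀ X : ℤ, X ^ 2 ≤ 6 → -2 ≤ X ∧ X ≤ 2 := fun X hX => by
    constructor <;> nlinarith
  have n1 := sq_nonneg A
  have n2 := sq_nonneg B
  have n3 := sq_nonneg g'
  have n4 := sq_nonneg (A - 1)
  have n5 := sq_nonneg (B - 1)
  have n6 := sq_nonneg (g' - 1)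
  have n7 := sq_nonneg (A - B)
  have n8 := sq_nonneg (A - g')
  have n9 := sq_nonneg (B - g')
  have hA2 := small A (by omega)
  have hB2 := small B (by omega)
  have hG2 := small g' (by omega)
  obtain ⟨A1, A2⟩ := hA2
  obtain ⟨B1, B2⟩ := hB2
  obtain ⟨G1, G2⟩ := hG2
  have hsol : (A = 0 ∧ B = 0 ∧ g' = 0) ∨ (A = 1 ∧ B = 1 ∧ g' = 1) ∨
      (A + B = 1 ∧ g' = 0 ∧ 48 ≤ spread V.cp) := by
    interval_cases A <;> interval_cases B <;> interval_cases g' <;> omega
  have cases_all : ∀ p : ZMod (2 ^ 2) × ZMod (2 ^ 2), p = 0 ∨ p = (2, 2) ∨ p = (2, 0) ∨ p = (0, 2) ∨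
      p = (1, 1) ∨ p = (3, 0) ∨ p = (0, 3) ∨ p = (3, 3) ∨ p = (1, 0) ∨ p = (0, 1) ∨ p = (1, 2) ∨
      p = (2, 1) ∨ p = (3, 1) ∨ p = (1, 3) ∨ p = (2, 3) ∨ p = (3, 2) := by decide
  rcases hsol with ⟨rfl, rfl, rfl⟩ | ⟨rfl, rfl, rfl⟩ | ⟨hAB, rfl, h48⟩
  · refine Or.inl (Or.inl fun p hp => ?_)
    rcases cases_all p with rfl | rfl | rfl | rfl | rfl | rfl | rfl | rfl | rfl | rfl | rfl | rfl |
      rfl | rfl | rfl | rfl <;> first | exact absurd rfl hp | exact e22 | exact e20 | exact e02 |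
        (simp only [cp, e30, e03, e10, e01, e21, e31, e13, e23, e32, ← ha, ← hb, ← hg, hA, hB, hg', add_zero]; rfl)
  · refine Or.inl (Or.inr fun p hpO => ?_)
    rw [mem_Oh, hh] at hpO
    rcases cases_all p with rfl | rfl | rfl | rfl | rfl | rfl | rfl | rfl | rfl | rfl | rfl | rfl |
      rfl | rfl | rfl | rfl <;> first | exact h00 |
        (refine absurd ?_ hpO; decide) |
        (simp only [cp, e30, e03, e10, e01, e21, e31, e13, e23, e32, ← ha, ← hb, ← hg, hA, hB, hg']; rfl)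
  · refine Or.inr ⟨h48, fun h => ?_⟩
    rcases h with ⟨r, hr⟩
    omega

end Vec

end Cfsg.Agent.H36.Wreath
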