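import Cfsg.Agent.H36.Wreath.Vec

/-!
# Elementary properties of the variance sum
-/

set_option autoImplicit false

namespace Cfsg.Agent.H36.Wreath

open Finset

variable {ι κ : Type*} [Fintype ι] [Fintype κ]

theorem two_spread (v : ι → ℤ) : 2 * spread v = ∑ i, ∑ j, (v i - v j) ^ 2 := by
  simp only [sub_sq, sum_add_distrib, sum_sub_distrib, sum_const, card_univ, nsmul_eq_mul,
    ← mul_sum, ← sum_mul, spread]
  ring

theorem spread_nonneg (v : ι → ℤ) : 0 ≤ spread v := by
  have h := two_spread v
  have h' : 0 ≤ ∑ i, ∑ j, (v i - v j) ^ 2 :=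
    sum_nonneg fun i _ => sum_nonneg fun j _ => sq_nonneg _
  omega

theorem spread_mono {v w : ι → ℤ} (h : ∀ i j, (w i - w j) ^ 2 ≤ (v i - v j) ^ 2) :
    spread w ≤ spread v := by
  have h1 := two_spread v
  have h2 := two_spread w
  have h3 : ∑ i, ∑ j, (w i - w j) ^ 2 ≤ ∑ i, ∑ j, (v i - v j) ^ 2 :=
    sum_le_sum fun i _ => sum_le_sum fun j _ => h i j
  omega

theorem spread_sub_const (v : ι → ℤ) (K : ℤ) : spread (fun i => v i - K) = spread v := by
  have h1 := two_spread v
  have h2 := two_spread fun i => v i - K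
  simp only [sub_sub_sub_cancel_right] at h2
  omega

theorem spread_neg (v : ι → ℤ) : spread (fun i => -v i) = spread v := by
  simp [spread, sum_neg_distrib]

/-- A part varies at most in proportion. -/
theorem spread_part (v : ι → ℤ) {f : κ → ι} (hf : Function.Injective f) :
    (Fintype.card ι : ℤ) * spread (fun k => v (f k)) ≤ (Fintype.card κ : ℤ) * spread v := by
  classical
  rcases (Fintype.card ι).eq_zero_or_pos with hN | hN
  · haveI := Fintype.card_eq_zero_iff.1 hN
    have : IsEmpty κ := Function.isEmpty f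
    simp [spread]
  set N : ℤ := (Fintype.card ι : ℤ) with hNdef
  set M : ℤ := (Fintype.card κ : ℤ)
  set S : ℤ := ∑ i, v i
  have hfull : ∑ i, (N * v i - S) ^ 2 = N * spread v := by
    simp only [sub_sq, sum_add_distrib, sum_sub_distrib, mul_pow, ← mul_sum, ← sum_mul, sum_const,
      card_univ, nsmul_eq_mul, spread, ← hNdef]
    ring
  have hle : ∑ k, (N * v (f k) - S) ^ 2 ≤ ∑ i, (N * v i - S) ^ 2 := by
    rw [← sum_image (f := fun i => (N * v i - S) ^ 2) (fun a _ b _ h => hf h)]
    exact sum_le_sum_of_subset_of_nonneg (subset_univ _) fun i _ _ => sq_nonneg _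
  have hpart : N ^ 2 * spread (fun k => v (f k)) ≤ M * ∑ k, (N * v (f k) - S) ^ 2 := by
    have hc : spread (fun k => N * v (f k) - S) = N ^ 2 * spread (fun k => v (f k)) := by
      rw [spread_sub_const (fun k => N * v (f k)) S]
      simp only [spread, mul_pow, ← mul_sum]
      ring
    rw [← hc, spread]
    exact sub_le_self _ (sq_nonneg _)
  have hM : 0 ≤ M := Int.natCast_nonneg _
  refine le_of_mul_le_mul_left ?_ (show (0 : ℤ) < N by rw [hNdef]; exact_mod_cast hN)
  calc N * (N * spread fun k => v (f k)) = N ^ 2 * spread (fun k => v (f k)) := by ring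
    _ ≤ M * ∑ k, (N * v (f k) - S) ^ 2 := hpart
    _ ≤ M * ∑ i, (N * v i - S) ^ 2 := mul_le_mul_of_nonneg_left hle hM
    _ = N * (M * spread v) := by rw [hfull]; ring

/-- The threshold at `k`. -/
def above (v : ι → ℤ) (k : ℤ) : Finset ι := univ.filter fun i => k < v i

theorem mem_above {v : ι → ℤ} {k : ℤ} {i : ι} : i ∈ above v k ↔ k < v i := by simp [above]

theorem spread_ind [DecidableEq ι] (S : Finset ι) :
    spread (fun i => if i ∈ S then (1 : ℤ) else 0) = (S.card : ℤ) * ((Fintype.card ι : ℤ) - S.card) := by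
  simp only [spread, ite_pow, one_pow, zero_pow (two_ne_zero), sum_boole, filter_univ_mem]
  ring

/-- One threshold. -/
theorem spread_ge_one (v : ι → ℤ) (k : ℤ) :
    ((above v k).card : ℤ) * ((Fintype.card ι : ℤ) - (above v k).card) ≤ spread v := by
  classical
  rw [← spread_ind]
  refine spread_mono fun i j => sq_le_sq.2 ?_
  simp only [mem_above]
  split_ifs <;> rcases abs_cases (v i - v j) with h | h <;> simp <;> omega

/-- Two thresholds add up. -/
theorem spread_ge_two (v : ι → ℤ) {k l : ℤ} (hkl : k ≠ l) :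
    ((above v k).card : ℤ) * ((Fintype.card ι : ℤ) - (above v k).card) +
      ((above v l).card : ℤ) * ((Fintype.card ι : ℤ) - (above v l).card) ≤ spread v := by
  classical
  rw [← spread_ind, ← spread_ind]
  have h1 := two_spread fun i => if i ∈ above v k then (1 : ℤ) else 0
  have h2 := two_spread fun i => if i ∈ above v l then (1 : ℤ) else 0
  have h3 := two_spread v
  have h4 : (∑ i, ∑ j, ((if i ∈ above v k then (1 : ℤ) else 0) - if j ∈ above v k then 1 else 0) ^ 2) +
      (∑ i, ∑ j, ((if i ∈ above v l then (1 : ℤ) else 0) - if j ∈ above v l then 1 else 0) ^ 2) ≤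
      ∑ i, ∑ j, (v i - v j) ^ 2 := by
    rw [← sum_add_distrib]
    refine sum_le_sum fun i _ => ?_
    rw [← sum_add_distrib]
    refine sum_le_sum fun j _ => ?_
    simp only [mem_above]
    split_ifs <;> norm_num <;>
      first
        | exact sq_nonneg _
        | nlinarith [sq_nonneg (v i - v j)]
        | (have : (v i - v j) ≤ -2 ∨ 2 ≤ (v i - v j) := by omega
           rcases this with h | h <;> nlinarith)
        | (have : (v i - v j) ≠ 0 := by omega
           nlinarith [Int.one_le_abs this, sq_abs (v i - v j)])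
  omega

end Cfsg.Agent.H36.Wreath
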